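import Groth.Agent.GrpdSplit.Orbit

/-!
# Splitting off the finite part around an orbit after an elementary neighbourhood
-/

set_option autoImplicit false
set_option linter.style.haveILetI false
set_option backward.isDefEq.respectTransparency false
set_option backward.isDefEq.respectTransparency.types false
set_option maxHeartbeats 1000000

universe u

open CategoryTheory CategoryTheory.Limits AlgebraicGeometry Grpd

namespace Groth.Agent.GrpdSplit

/-- Finitely many points of quasi-finiteness give a finite open and closed piece of an elementary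
neighbourhood with exactly these points over the base point. -/
theorem exists_clopen_part {X Y : Scheme.{u}} (f : X ⟶ Y) [LocallyOfFiniteType f] [IsSeparated f] (s : Y)
    (Sg : Set X) (hfin : Sg.Finite) (hs : ∀ x ∈ Sg, f x = s) (hqf : ∀ x ∈ Sg, f.QuasiFiniteAt x) :
    ∃ (U : Scheme.{u}) (g : U ⟶ Y) (u : U), Hens2.IsEtaleNbhd g u s ∧
      ∃ V : (pullback f g).Opens, IsClosed (V : Set ↑(pullback f g)) ∧ IsFinite (V.ι ≫ pullback.snd f g) ∧
        ∀ w, pullback.snd f g w = u → (w ∈ V ↔ pullback.fst f g w ∈ Sg) := by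
  obtain ⟨n, ⟨eqv⟩⟩ : ∃ n, Nonempty (Fin n ≃ Sg) := by
    have := hfin.fintype
    exact ⟨_, ⟨(Fintype.equivFin Sg).symm⟩⟩
  obtain ⟨U, g, u, hg, V, v, hV⟩ := Groth.Agent.MorLib.EEF.exists_elem_nbhd_multi f s
    (fun i => (eqv i).1) (fun i => hs _ (eqv i).2) (fun i => hqf _ (eqv i).2)
  have hW : IsFinite ((⨆ i, V i).ι ≫ pullback.snd f g) := isFinite_iSup_ι _ V fun i => (hV i).2.1
  refine ⟨U, g, u, hg, ⨆ i, V i, ?_, hW, fun z hz => ⟨fun h => ?_, fun h => ?_⟩⟩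
  · haveI := hW
    haveI : IsProper ((⨆ i, V i).ι) := IsProper.of_comp _ (pullback.snd f g)
    rw [← Scheme.Opens.range_ι]
    exact (⨆ i, V i).ι.isClosedMap.isClosed_range
  · obtain ⟨i, hi⟩ := TopologicalSpace.Opens.mem_iSup.1 h
    obtain ⟨-, -, -, huniq, hvx, -⟩ := hV i
    rw [huniq z hi hz, hvx]
    exact (eqv i).2
  · obtain ⟨i, hi⟩ := eqv.surjective ⟨_, h⟩
    obtain ⟨hvV, -, hvu, -, hvx, -⟩ := hV i
    obtain ⟨w, -, -, -, hun⟩ := Groth.Agent.MorLib.EEF.exists_unique_point (IsPullback.of_hasPullback f g)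
      (pullback.fst f g z) u (by
        rw [← Scheme.Hom.comp_apply, pullback.condition, Scheme.Hom.comp_apply, hz]) hg.residue_bijective
    rw [hun z rfl hz, ← hun (v i) (by rw [hvx, hi]) hvu]
    exact TopologicalSpace.Opens.mem_iSup.2 ⟨i, hvV⟩

/-- A finite open and closed piece pulls back to any further neighbourhood. -/
theorem refine_part {X Y U U' : Scheme.{u}} (f : X ⟶ Y) (g : U ⟶ Y) (k : U' ⟶ U) (u : U) (u' : U')
    (hk : k u' = u) (Sg : Set X) (V : (pullback f g).Opens) (hV : IsClosed (V : Set ↑(pullback f g)))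
    (hfin : IsFinite (V.ι ≫ pullback.snd f g))
    (hmem : ∀ w, pullback.snd f g w = u → (w ∈ V ↔ pullback.fst f g w ∈ Sg)) :
    ∃ V' : (pullback f (k ≫ g)).Opens, IsClosed (V' : Set ↑(pullback f (k ≫ g))) ∧
      IsFinite (V'.ι ≫ pullback.snd f (k ≫ g)) ∧
      ∀ w, pullback.snd f (k ≫ g) w = u' → (w ∈ V' ↔ pullback.fst f (k ≫ g) w ∈ Sg) := by
  let q : pullback f (k ≫ g) ⟶ pullback f g := pullback.map f (k ≫ g) f g (𝟙 _) k (𝟙 _) (by simp) (by simp)
  have sqq : IsPullback q (pullback.snd f (k ≫ g)) (pullback.snd f g) k := IsPullback.of_right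
    (by simpa [q] using IsPullback.of_hasPullback f (k ≫ g)) (by simp [q]) (IsPullback.of_hasPullback f g)
  refine ⟨q ⁻¹ᵁ V, hV.preimage q.continuous,
    MorphismProperty.of_isPullback (P := @IsFinite) ((isPullback_morphismRestrict q V).paste_vert sqq) hfin,
    fun w hw => ?_⟩
  show q w ∈ V ↔ _
  rw [hmem (q w) (by rw [← Scheme.Hom.comp_apply, sqq.w, Scheme.Hom.comp_apply, hw, hk]),
    ← Scheme.Hom.comp_apply, show q ≫ pullback.fst f g = pullback.fst f (k ≫ g) by simp [q]]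

/-- Two elementary neighbourhoods have a common refinement which is elementary. -/
theorem exists_refinement {Y U₁ U₂ : Scheme.{u}} (g₁ : U₁ ⟶ Y) (g₂ : U₂ ⟶ Y) (u₁ : U₁) (u₂ : U₂) (s : Y)
    (h₁ : Hens2.IsEtaleNbhd g₁ u₁ s) (h₂ : Hens2.IsEtaleNbhd g₂ u₂ s) :
    ∃ (U : Scheme.{u}) (a : U ⟶ U₁) (b : U ⟶ U₂) (u : U), a ≫ g₁ = b ≫ g₂ ∧ a u = u₁ ∧ b u = u₂ ∧
      Hens2.IsEtaleNbhd (a ≫ g₁) u s := by
  haveI := h₁.etale
  haveI := h₂.etale
  obtain ⟨z, hz1, hz2, hb, -⟩ := Groth.Agent.MorLib.EEF.exists_unique_point (IsPullback.of_hasPullback g₁ g₂)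
    u₁ u₂ (h₁.base_eq.trans h₂.base_eq.symm) h₂.residue_bijective
  refine ⟨pullback g₁ g₂, pullback.fst _ _, pullback.snd _ _, z, pullback.condition, hz1, hz2,
    ⟨inferInstance, ?_, ?_⟩⟩
  · show (pullback.fst g₁ g₂ ≫ g₁) z = s
    rw [Scheme.Hom.comp_apply, hz1, h₁.base_eq]
  · haveI : IsIso (g₁.residueFieldMap (pullback.fst g₁ g₂ z)) := by
      rw [hz1]; exact (ConcreteCategory.isIso_iff_bijective _).mpr h₁.residue_bijective
    haveI : IsIso ((pullback.fst g₁ g₂).residueFieldMap z) := (ConcreteCategory.isIso_iff_bijective _).mpr hb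
    rw [Scheme.residueFieldMap_comp]
    exact ConcreteCategory.bijective_of_isIso _

variable {S : Scheme.{u}} (G : GroupoidScheme S)

/-- The base change of the source map. -/
noncomputable def sB {S' : Scheme.{u}} (g : S' ⟶ S) : pullback G.pR g ⟶ pullback G.pU g :=
  pullback.map G.pR g G.pU g G.s (𝟙 S') (𝟙 S) ((Category.comp_id _).trans G.s_over.symm)
    ((Category.comp_id _).trans (Category.id_comp _).symm)

/-- The base change of the target map. -/
noncomputable def tB {S' : Scheme.{u}} (g : S' ⟶ S) : pullback G.pR g ⟶ pullback G.pU g :=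
  pullback.map G.pR g G.pU g G.t (𝟙 S') (𝟙 S) ((Category.comp_id _).trans G.t_over.symm)
    ((Category.comp_id _).trans (Category.id_comp _).symm)

theorem sB_snd {S' : Scheme.{u}} (g : S' ⟶ S) : sB G g ≫ pullback.snd G.pU g = pullback.snd G.pR g := by
  simp [sB]

theorem tB_snd {S' : Scheme.{u}} (g : S' ⟶ S) : tB G g ≫ pullback.snd G.pU g = pullback.snd G.pR g := by
  simp [tB]

theorem sB_fst {S' : Scheme.{u}} (g : S' ⟶ S) : sB G g ≫ pullback.fst G.pU g = pullback.fst G.pR g ≫ G.s := by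
  simp [sB]

theorem tB_fst {S' : Scheme.{u}} (g : S' ⟶ S) : tB G g ≫ pullback.fst G.pU g = pullback.fst G.pR g ≫ G.t := by
  simp [tB]

/-- The finite part of a groupoid around an orbit, on an elementary neighbourhood: pieces of objects
and arrows whose points over the base point are the orbit and its arrows. -/
theorem exists_pieces (p : S) (u : G.U) (hu : G.pU u = p) [LocallyOfFiniteType G.pU] [IsSeparated G.pU]
    [IsSeparated G.pR] [Flat G.s] [LocallyOfFinitePresentation G.s] [Flat G.t] [LocallyOfFinitePresentation G.t]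
    (hqf : ∃ V : G.U.Opens, u ∈ V ∧ ∀ x ∈ V, G.pU x = p → x = u) (hfin : (⇑G.s ⁻¹' {u}).Finite) :
    ∃ (S' : Scheme.{u}) (g : S' ⟶ S) (p' : S'), Hens2.IsEtaleNbhd g p' p ∧
      ∃ (U' : (pullback G.pU g).Opens) (R' : (pullback G.pR g).Opens),
        IsClosed (U' : Set ↥(pullback G.pU g)) ∧ IsClosed (R' : Set ↥(pullback G.pR g)) ∧
        IsFinite (U'.ι ≫ pullback.snd G.pU g) ∧ IsFinite (R'.ι ≫ pullback.snd G.pR g) ∧
        (∀ w, pullback.snd G.pU g w = p' →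
          (w ∈ U' ↔ pullback.fst G.pU g w ∈ ⇑G.t '' (⇑G.s ⁻¹' {u}))) ∧
        (∀ r, pullback.snd G.pR g r = p' → (r ∈ R' ↔ sB G g r ∈ U')) ∧
        (∀ r ∈ R', sB G g r ∈ U' ∧ tB G g r ∈ U') ∧
        (∀ r, pullback.snd G.pR g r = p' → sB G g r ∈ U' → tB G g r ∈ U') := by
  obtain ⟨hOf, hOp, hOq, hRf, hRp, hRq, hinv, -⟩ := exists_orbit G p u hu hqf hfin
  haveI : LocallyOfFiniteType G.pR := by rw [← G.s_over]; infer_instance
  obtain ⟨S₁, g₁, p₁, hg₁, U₁, hU₁c, hU₁f, hU₁⟩ := exists_clopen_part G.pU p _ hOf hOp hOq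
  obtain ⟨S₂, g₂, p₂, hg₂, R₂, hR₂c, hR₂f, hR₂⟩ := exists_clopen_part G.pR p _ hRf hRp hRq
  obtain ⟨S', a, b, p', hab, ha, hb, hg⟩ := exists_refinement g₁ g₂ p₁ p₂ p hg₁ hg₂
  obtain ⟨U', hU'c, hU'f, hU'⟩ := refine_part G.pU g₁ a p₁ p' ha _ U₁ hU₁c hU₁f hU₁
  obtain ⟨R₀, hR₀c, hR₀f, hR₀⟩ := refine_part G.pR g₂ b p₂ p' hb _ R₂ hR₂c hR₂f hR₂
  generalize hgdef : a ≫ g₁ = g at hab hg U' hU'c hU'f hU'
  subst hab
  let R' : (pullback G.pR (b ≫ g₂)).Opens := R₀ ⊓ (sB G (b ≫ g₂) ⁻¹ᵁ U' ⊓ tB G (b ≫ g₂) ⁻¹ᵁ U')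
  have hsb : ∀ r, pullback.snd G.pU (b ≫ g₂) (sB G (b ≫ g₂) r) = pullback.snd G.pR (b ≫ g₂) r := fun r => by
    rw [← Scheme.Hom.comp_apply, sB_snd]
  have htb : ∀ r, pullback.snd G.pU (b ≫ g₂) (tB G (b ≫ g₂) r) = pullback.snd G.pR (b ≫ g₂) r := fun r => by
    rw [← Scheme.Hom.comp_apply, tB_snd]
  have hsw : ∀ r, pullback.snd G.pR (b ≫ g₂) r = p' →
      (sB G (b ≫ g₂) r ∈ U' ↔ G.s (pullback.fst G.pR (b ≫ g₂) r) ∈ ⇑G.t '' (⇑G.s ⁻¹' {u})) := fun r hr => by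
    rw [hU' _ ((hsb r).trans hr), ← Scheme.Hom.comp_apply, sB_fst, Scheme.Hom.comp_apply]
  have htw : ∀ r, pullback.snd G.pR (b ≫ g₂) r = p' →
      (tB G (b ≫ g₂) r ∈ U' ↔ G.t (pullback.fst G.pR (b ≫ g₂) r) ∈ ⇑G.t '' (⇑G.s ⁻¹' {u})) := fun r hr => by
    rw [hU' _ ((htb r).trans hr), ← Scheme.Hom.comp_apply, tB_fst, Scheme.Hom.comp_apply]
  have hinv' : ∀ r, pullback.snd G.pR (b ≫ g₂) r = p' → sB G (b ≫ g₂) r ∈ U' → tB G (b ≫ g₂) r ∈ U' :=
    fun r hr h => (htw r hr).2 (hinv _ ((hsw r hr).1 h))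
  refine ⟨S', b ≫ g₂, p', hg, U', R', hU'c,
    hR₀c.inter ((hU'c.preimage (sB G _).continuous).inter (hU'c.preimage (tB G _).continuous)), hU'f, ?_, hU',
    fun r hr => ⟨fun h => h.2.1, fun h => ⟨(hR₀ r hr).2 ((hsw r hr).1 h), h, hinv' r hr h⟩⟩,
    fun r hr => hr.2, hinv'⟩
  have hle : R' ≤ R₀ := inf_le_left
  haveI : IsClosedImmersion ((pullback G.pR (b ≫ g₂)).homOfLE hle) := by
    refine IsClosedImmersion.of_isPreimmersion _ ?_
    have hr : Set.range ((pullback G.pR (b ≫ g₂)).homOfLE hle) = R₀.ι ⁻¹' (R' : Set ↥(pullback G.pR (b ≫ g₂))) := by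
      ext z
      constructor
      · rintro ⟨y, rfl⟩
        show R₀.ι ((pullback G.pR (b ≫ g₂)).homOfLE hle y) ∈ R'
        rw [← Scheme.Hom.comp_apply, Scheme.homOfLE_ι]
        exact y.2
      · intro hz
        exact ⟨⟨R₀.ι z, hz⟩, R₀.ι.isEmbedding.injective (by rw [← Scheme.Hom.comp_apply, Scheme.homOfLE_ι]; rfl)⟩
    rw [hr]
    exact (hR₀c.inter ((hU'c.preimage (sB G _).continuous).inter
      (hU'c.preimage (tB G _).continuous))).preimage R₀.ι.continuous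
  rw [show R'.ι ≫ pullback.snd G.pR (b ≫ g₂) =
    (pullback G.pR (b ≫ g₂)).homOfLE hle ≫ R₀.ι ≫ pullback.snd G.pR (b ≫ g₂) from
      (Scheme.homOfLE_ι_assoc _ hle _).symm]
  haveI := hR₀f
  infer_instance

/-- The point over a given object and the base point, and the orbit description of the pieces. -/
theorem pieces_props (p : S) (u : G.U) (hu : G.pU u = p) {S' : Scheme.{u}} (g : S' ⟶ S) (p' : S')
    (hg : Hens2.IsEtaleNbhd g p' p) (U' : (pullback G.pU g).Opens)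
    (hU' : ∀ w, pullback.snd G.pU g w = p' → (w ∈ U' ↔ pullback.fst G.pU g w ∈ ⇑G.t '' (⇑G.s ⁻¹' {u}))) :
    (∃ u' : ↥(pullback G.pU g), u' ∈ U' ∧ pullback.fst G.pU g u' = u ∧ pullback.snd G.pU g u' = p') ∧
    ∀ u' : ↥(pullback G.pU g), u' ∈ U' → pullback.fst G.pU g u' = u → pullback.snd G.pU g u' = p' →
      {x : ↥(pullback G.pU g) | x ∈ U' ∧ pullback.snd G.pU g x = p'} =
        ⇑(tB G g) '' (⇑(sB G g) ⁻¹' {u'}) := by
  have hupt : ∀ x : G.U, G.pU x = p → ∃ z, pullback.fst G.pU g z = x ∧ pullback.snd G.pU g z = p' ∧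
      ∀ w, pullback.fst G.pU g w = x → pullback.snd G.pU g w = p' → w = z := fun x hx => by
    obtain ⟨z, h1, h2, -, h3⟩ := Groth.Agent.MorLib.EEF.exists_unique_point (IsPullback.of_hasPullback G.pU g)
      x p' (hx.trans hg.base_eq.symm) hg.residue_bijective
    exact ⟨z, h1, h2, h3⟩
  have hue : u ∈ ⇑G.t '' (⇑G.s ⁻¹' {u}) := ⟨G.e u, by
    show G.s (G.e u) = u
    rw [← Scheme.Hom.comp_apply, G.e_s]; rfl, by
    rw [← Scheme.Hom.comp_apply, G.e_t]; rfl⟩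
  obtain ⟨z, hz1, hz2, huniq⟩ := hupt u hu
  refine ⟨⟨z, (hU' z hz2).2 (hz1 ▸ hue), hz1, hz2⟩, fun u' _ hu'1 hu'2 => ?_⟩
  ext x
  constructor
  · rintro ⟨hx, hxp⟩
    obtain ⟨r, hr, hrx⟩ := (hU' x hxp).1 hx
    have hrp : G.pR r = p := by
      rw [← G.s_over, Scheme.Hom.comp_apply, show G.s r = u from hr, hu]
    obtain ⟨r', hr'1, hr'2, -⟩ := Groth.Agent.MorLib.EEF.exists_unique_point (IsPullback.of_hasPullback G.pR g)
      r p' (hrp.trans hg.base_eq.symm) hg.residue_bijective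
    have hs' : sB G g r' = u' := by
      rw [huniq u' hu'1 hu'2]
      refine huniq _ ?_ ?_
      · rw [← Scheme.Hom.comp_apply, sB_fst, Scheme.Hom.comp_apply, hr'1]; exact hr
      · rw [← Scheme.Hom.comp_apply, sB_snd, hr'2]
    refine ⟨r', hs', ?_⟩
    obtain ⟨z', hz'1, hz'2, huniq'⟩ := hupt (pullback.fst G.pU g x) (by
      rw [← Scheme.Hom.comp_apply, pullback.condition, Scheme.Hom.comp_apply, hxp, hg.base_eq])
    rw [huniq' x rfl hxp]
    refine huniq' _ ?_ ?_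
    · rw [← Scheme.Hom.comp_apply, tB_fst, Scheme.Hom.comp_apply, hr'1, hrx]
    · rw [← Scheme.Hom.comp_apply, tB_snd, hr'2]
  · rintro ⟨r, hr, rfl⟩
    have hr2 : pullback.snd G.pR g r = p' := by
      rw [← sB_snd, Scheme.Hom.comp_apply, show sB G g r = u' from hr, hu'2]
    have hsnd : pullback.snd G.pU g (tB G g r) = p' := by rw [← Scheme.Hom.comp_apply, tB_snd, hr2]
    refine ⟨(hU' _ hsnd).2 ⟨pullback.fst G.pR g r, ?_, ?_⟩, hsnd⟩
    · show G.s (pullback.fst G.pR g r) = u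
      rw [← Scheme.Hom.comp_apply, ← sB_fst, Scheme.Hom.comp_apply, show sB G g r = u' from hr, hu'1]
    · rw [← Scheme.Hom.comp_apply, ← tB_fst, Scheme.Hom.comp_apply]

end Groth.Agent.GrpdSplit
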