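import Groth.Agent.GrpdSplit.FinitePart

/-!
# With universally closed `j` the finite piece of arrows is the full restriction
-/

set_option autoImplicit false
set_option linter.style.haveILetI false
set_option backward.isDefEq.respectTransparency false
set_option backward.isDefEq.respectTransparency.types false
set_option maxHeartbeats 1000000

universe u

open CategoryTheory CategoryTheory.Limits AlgebraicGeometry Grpd

namespace Groth.Agent.GrpdSplit

variable {S : Scheme.{u}} (G : GroupoidScheme S)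

/-- Arrows with both ends in a finite open and closed piece of objects have closed image in the base. -/
theorem isClosed_image_of_ends [UniversallyClosed G.j] {S' : Scheme.{u}} (g : S' ⟶ S)
    (U' : (pullback G.pU g).Opens) (hU' : IsClosed (U' : Set ↥(pullback G.pU g)))
    [IsFinite (U'.ι ≫ pullback.snd G.pU g)] (C : Set ↥(pullback G.pR g)) (hC : IsClosed C)
    (hs : C ⊆ ⇑(sB G g) ⁻¹' (U' : Set ↥(pullback G.pU g))) (ht : C ⊆ ⇑(tB G g) ⁻¹' (U' : Set ↥(pullback G.pU g))) :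
    IsClosed (⇑(pullback.snd G.pR g) '' C) := by
  let q₂ := pullback.fst G.pU G.pU ≫ G.pU
  have hq₂ : G.j ≫ q₂ = G.pR := by
    simp only [q₂, GroupoidScheme.j]
    rw [pullback.lift_fst_assoc, G.t_over]
  let K := pullback q₂ g
  let jB : pullback G.pR g ⟶ K := pullback.map G.pR g q₂ g G.j (𝟙 _) (𝟙 _) (by simp [hq₂]) (by simp)
  have sq : IsPullback (pullback.fst G.pR g) jB G.j (pullback.fst q₂ g) := by
    refine IsPullback.flip (IsPullback.of_bot (v₂₁ := pullback.snd q₂ g) (h₃₁ := g) (v₂₂ := q₂) ?_ ?_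
      (IsPullback.of_hasPullback q₂ g)).flip
    · simp only [jB, pullback.map, pullback.lift_snd, Category.comp_id, hq₂]
      exact IsPullback.of_hasPullback G.pR g
    · simp [jB]
  haveI : UniversallyClosed jB := MorphismProperty.of_isPullback sq inferInstance
  let π₁ : K ⟶ pullback G.pU g := pullback.lift (pullback.fst q₂ g ≫ pullback.fst G.pU G.pU) (pullback.snd q₂ g)
    ((Category.assoc _ _ _).trans pullback.condition)
  let π₂ : K ⟶ pullback G.pU g := pullback.lift (pullback.fst q₂ g ≫ pullback.snd G.pU G.pU) (pullback.snd q₂ g)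
    (by rw [Category.assoc, ← pullback.condition (f := G.pU) (g := G.pU)]; exact pullback.condition)
  have h1 : jB ≫ π₁ = tB G g := by
    apply pullback.hom_ext <;> simp [jB, π₁, tB, GroupoidScheme.j]
  have h2 : jB ≫ π₂ = sB G g := by
    apply pullback.hom_ext <;> simp [jB, π₂, sB, GroupoidScheme.j]
  have h3 : jB ≫ pullback.snd q₂ g = pullback.snd G.pR g := by simp [jB]
  let W : K.Opens := π₁ ⁻¹ᵁ U' ⊓ π₂ ⁻¹ᵁ U'
  let e := U'.ι ≫ pullback.snd G.pU g
  let Φ : pullback e e ⟶ K := pullback.lift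
    (pullback.lift (pullback.fst e e ≫ U'.ι ≫ pullback.fst G.pU g) (pullback.snd e e ≫ U'.ι ≫ pullback.fst G.pU g) (by
      simp only [Category.assoc, pullback.condition]
      exact congrArg (· ≫ g) (pullback.condition (f := e) (g := e))))
    (pullback.fst e e ≫ e) (by simp [q₂, e, pullback.condition])
  have hΦ : Φ ≫ pullback.snd q₂ g = pullback.fst e e ≫ e := pullback.lift_snd _ _ _
  haveI : IsFinite (Φ ≫ pullback.snd q₂ g) := by rw [hΦ]; infer_instance
  have hWr : (W : Set ↥K) ⊆ Set.range Φ := by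
    have hr1 : Set.range (W.ι ≫ π₁) ⊆ Set.range U'.ι := by
      rintro _ ⟨x, rfl⟩
      rw [Scheme.Opens.range_ι]
      exact x.2.1
    have hr2 : Set.range (W.ι ≫ π₂) ⊆ Set.range U'.ι := by
      rintro _ ⟨x, rfl⟩
      rw [Scheme.Opens.range_ι]
      exact x.2.2
    let a := IsOpenImmersion.lift U'.ι (W.ι ≫ π₁) hr1
    let b := IsOpenImmersion.lift U'.ι (W.ι ≫ π₂) hr2
    have ha : a ≫ U'.ι = W.ι ≫ π₁ := IsOpenImmersion.lift_fac _ _ _
    have hb : b ≫ U'.ι = W.ι ≫ π₂ := IsOpenImmersion.lift_fac _ _ _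
    have hab : a ≫ e = b ≫ e := by
      simp only [e, reassoc_of% ha, reassoc_of% hb]
      simp [π₁, π₂]
    have hψ : pullback.lift a b hab ≫ Φ = W.ι := by
      apply pullback.hom_ext
      · apply pullback.hom_ext
        · simp only [Φ, Category.assoc, pullback.lift_fst, pullback.lift_fst_assoc, reassoc_of% ha]
          simp [π₁]
        · simp only [Φ, Category.assoc, pullback.lift_fst, pullback.lift_snd, pullback.lift_fst_assoc,
            pullback.lift_snd_assoc, reassoc_of% hb]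
          simp [π₂]
      · simp only [Φ, Category.assoc, pullback.lift_snd, pullback.lift_fst_assoc, e, reassoc_of% ha]
        simp [π₁]
    intro x hx
    exact ⟨pullback.lift a b hab ⟨x, hx⟩, by rw [← Scheme.Hom.comp_apply, hψ]; rfl⟩
  have hD : IsClosed (⇑jB '' C) := jB.isClosedMap _ hC
  have hDW : ⇑jB '' C ⊆ W := by
    rintro _ ⟨c, hc, rfl⟩
    refine ⟨?_, ?_⟩
    · show π₁ (jB c) ∈ U'
      rw [← Scheme.Hom.comp_apply, h1]; exact ht hc
    · show π₂ (jB c) ∈ U'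
      rw [← Scheme.Hom.comp_apply, h2]; exact hs hc
  have key : ⇑(pullback.snd G.pR g) '' C = ⇑(Φ ≫ pullback.snd q₂ g) '' (⇑Φ ⁻¹' (⇑jB '' C)) := by
    rw [Scheme.Hom.comp_base, TopCat.coe_comp, Set.image_comp, Set.image_preimage_eq_of_subset (hDW.trans hWr),
      ← Set.image_comp, ← TopCat.coe_comp, ← Scheme.Hom.comp_base, h3]
  rw [key]
  exact (Φ ≫ pullback.snd q₂ g).isClosedMap _ (hD.preimage Φ.continuous)

/-- With universally closed `j`, after shrinking the base the piece of arrows is the full restriction. -/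
theorem exists_pieces_full (p : S) (u : G.U) (hu : G.pU u = p) [UniversallyClosed G.j] [LocallyOfFiniteType G.pU]
    [IsSeparated G.pU] [IsSeparated G.pR] [Flat G.s] [LocallyOfFinitePresentation G.s] [Flat G.t]
    [LocallyOfFinitePresentation G.t]
    (hqf : ∃ V : G.U.Opens, u ∈ V ∧ ∀ x ∈ V, G.pU x = p → x = u) (hfin : (⇑G.s ⁻¹' {u}).Finite) :
    ∃ (S' : Scheme.{u}) (g : S' ⟶ S) (p' : S'), Hens2.IsEtaleNbhd g p' p ∧
      ∃ (U' : (pullback G.pU g).Opens) (R' : (pullback G.pR g).Opens),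
        IsClosed (U' : Set ↥(pullback G.pU g)) ∧ IsClosed (R' : Set ↥(pullback G.pR g)) ∧
        IsFinite (U'.ι ≫ pullback.snd G.pU g) ∧ IsFinite (R'.ι ≫ pullback.snd G.pR g) ∧
        (∀ w, pullback.snd G.pU g w = p' →
          (w ∈ U' ↔ pullback.fst G.pU g w ∈ ⇑G.t '' (⇑G.s ⁻¹' {u}))) ∧
        (∀ r, pullback.snd G.pR g r = p' → (r ∈ R' ↔ sB G g r ∈ U')) ∧
        (∀ r ∈ R', sB G g r ∈ U' ∧ tB G g r ∈ U') ∧
        (R' : Set ↥(pullback G.pR g)) = ⇑(sB G g) ⁻¹' (U' : Set ↥(pullback G.pU g)) ∩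
          ⇑(tB G g) ⁻¹' (U' : Set ↥(pullback G.pU g)) := by
  obtain ⟨S₁, g, p₁, hg, U₁, R₁, hU₁c, hR₁c, hU₁f, hR₁f, hU₁, hR₁, hmaps, hinv⟩ :=
    exists_pieces G p u hu hqf hfin
  haveI := hU₁f
  let C : Set ↥(pullback G.pR g) := (⇑(sB G g) ⁻¹' (U₁ : Set ↥(pullback G.pU g)) ∩
    ⇑(tB G g) ⁻¹' (U₁ : Set ↥(pullback G.pU g))) \ R₁
  have hC : IsClosed C :=
    ((hU₁c.preimage (sB G g).continuous).inter (hU₁c.preimage (tB G g).continuous)).sdiff R₁.2
  let A : S₁.Opens := ⟨(⇑(pullback.snd G.pR g) '' C)ᶜ,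
    (isClosed_image_of_ends G g U₁ hU₁c C hC (fun c hc => hc.1.1) (fun c hc => hc.1.2)).isOpen_compl⟩
  have hpA : p₁ ∈ A := by
    rintro ⟨r, ⟨⟨hrs, -⟩, hrR⟩, hr⟩
    exact hrR ((hR₁ r hr).2 hrs)
  let qU : pullback G.pU (A.ι ≫ g) ⟶ pullback G.pU g :=
    pullback.map G.pU (A.ι ≫ g) G.pU g (𝟙 _) A.ι (𝟙 _) (by simp) (by simp)
  let qR : pullback G.pR (A.ι ≫ g) ⟶ pullback G.pR g :=
    pullback.map G.pR (A.ι ≫ g) G.pR g (𝟙 _) A.ι (𝟙 _) (by simp) (by simp)
  have sqU : IsPullback qU (pullback.snd G.pU (A.ι ≫ g)) (pullback.snd G.pU g) A.ι := IsPullback.of_right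
    (by simpa [qU] using IsPullback.of_hasPullback G.pU (A.ι ≫ g)) (by simp [qU]) (IsPullback.of_hasPullback G.pU g)
  have sqR : IsPullback qR (pullback.snd G.pR (A.ι ≫ g)) (pullback.snd G.pR g) A.ι := IsPullback.of_right
    (by simpa [qR] using IsPullback.of_hasPullback G.pR (A.ι ≫ g)) (by simp [qR]) (IsPullback.of_hasPullback G.pR g)
  have hcs : sB G (A.ι ≫ g) ≫ qU = qR ≫ sB G g := by
    apply pullback.hom_ext <;> simp [sB, qU, qR] <;> rfl
  have hct : tB G (A.ι ≫ g) ≫ qU = qR ≫ tB G g := by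
    apply pullback.hom_ext <;> simp [tB, qU, qR] <;> rfl
  have hs' : ∀ r, qU (sB G (A.ι ≫ g) r) = sB G g (qR r) := fun r => by
    rw [← Scheme.Hom.comp_apply, hcs, Scheme.Hom.comp_apply]
  have ht' : ∀ r, qU (tB G (A.ι ≫ g) r) = tB G g (qR r) := fun r => by
    rw [← Scheme.Hom.comp_apply, hct, Scheme.Hom.comp_apply]
  have hRsnd : ∀ r, pullback.snd G.pR g (qR r) = A.ι (pullback.snd G.pR (A.ι ≫ g) r) := fun r => by
    rw [← Scheme.Hom.comp_apply, sqR.w, Scheme.Hom.comp_apply]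
  have hUsnd : ∀ w, pullback.snd G.pU g (qU w) = A.ι (pullback.snd G.pU (A.ι ≫ g) w) := fun w => by
    rw [← Scheme.Hom.comp_apply, sqU.w, Scheme.Hom.comp_apply]
  have hgA : Hens2.IsEtaleNbhd (A.ι ≫ g) (⟨p₁, hpA⟩ : ↥A) p := by
    haveI := hg.etale
    refine ⟨inferInstance, hg.base_eq, ?_⟩
    rw [Scheme.residueFieldMap_comp]
    haveI : IsIso (g.residueFieldMap (A.ι ⟨p₁, hpA⟩)) :=
      (ConcreteCategory.isIso_iff_bijective _).mpr hg.residue_bijective
    exact ConcreteCategory.bijective_of_isIso _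
  refine ⟨A.toScheme, A.ι ≫ g, ⟨p₁, hpA⟩, hgA, qU ⁻¹ᵁ U₁, qR ⁻¹ᵁ R₁, hU₁c.preimage qU.continuous,
    hR₁c.preimage qR.continuous,
    MorphismProperty.of_isPullback (P := @IsFinite) ((isPullback_morphismRestrict qU U₁).paste_vert sqU) hU₁f,
    MorphismProperty.of_isPullback (P := @IsFinite) ((isPullback_morphismRestrict qR R₁).paste_vert sqR) hR₁f,
    fun w hw => ?_, fun r hr => ?_, fun r hr => ?_, ?_⟩
  · show qU w ∈ U₁ ↔ _
    rw [hU₁ (qU w) (by rw [hUsnd, hw]; rfl), ← Scheme.Hom.comp_apply,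
      show qU ≫ pullback.fst G.pU g = pullback.fst G.pU (A.ι ≫ g) by simp [qU]]
  · show qR r ∈ R₁ ↔ qU (sB G (A.ι ≫ g) r) ∈ U₁
    rw [hs', hR₁ (qR r) (by rw [hRsnd, hr]; rfl)]
  · show qU (sB G (A.ι ≫ g) r) ∈ U₁ ∧ qU (tB G (A.ι ≫ g) r) ∈ U₁
    rw [hs', ht']
    exact hmaps _ hr
  · ext r
    show qR r ∈ R₁ ↔ qU (sB G (A.ι ≫ g) r) ∈ U₁ ∧ qU (tB G (A.ι ≫ g) r) ∈ U₁
    rw [hs', ht']
    refine ⟨hmaps _, fun h => ?_⟩
    by_contra hR
    have hA : A.ι (pullback.snd G.pR (A.ι ≫ g) r) ∈ A := (pullback.snd G.pR (A.ι ≫ g) r).2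
    exact hA ⟨qR r, ⟨h, hR⟩, hRsnd r⟩

end Groth.Agent.GrpdSplit
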