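import Groth.Agent.GrpdSplit.Nbhd
import Groth.Agent.AlgStLib.GrpdQuotRestrict
import Groth.Agent.ConsPropLib.Fibre

/-!
# The finite orbit of an isolated point with finitely many arrows
-/

set_option autoImplicit false
set_option linter.style.haveILetI false
set_option backward.isDefEq.respectTransparency false
set_option backward.isDefEq.respectTransparency.types false

universe u

open CategoryTheory CategoryTheory.Limits AlgebraicGeometry Grpd Groth.Agent.AlgStLib.QuotRestrict

namespace Groth.Agent.GrpdSplit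

/-- A finite subset which is open in a fibre consists of points of quasi-finiteness. -/
theorem quasiFiniteAt_of_finite_open {X Y : Scheme.{u}} (f : X ⟶ Y) [LocallyOfFiniteType f] (p : Y)
    (O : Set X) (hO : O.Finite) (hOp : ∀ x ∈ O, f x = p) (V : X.Opens)
    (hV : ∀ x, f x = p → (x ∈ V ↔ x ∈ O)) (x : X) (hx : x ∈ O) : f.QuasiFiniteAt x := by
  obtain rfl := hOp x hx
  let F := f.fiber (f x)
  haveI : LocallyOfFiniteType (f.fiberToSpecResidueField (f x)) :=
    inferInstanceAs (LocallyOfFiniteType (pullback.snd f (Y.fromSpecResidueField (f x))))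
  haveI : JacobsonSpace F := LocallyOfFiniteType.jacobsonSpace (f.fiberToSpecResidueField (f x))
  let VF : F.Opens := f.fiberι (f x) ⁻¹ᵁ V
  haveI : JacobsonSpace ↥(VF : Set F) :=
    JacobsonSpace.of_isOpenEmbedding VF.2.isOpenEmbedding_subtypeVal
  have hfib : ∀ z : F, f (f.fiberι (f x) z) = f x := fun z => by
    have : f.fiberι (f x) z ∈ Set.range (f.fiberι (f x)) := ⟨z, rfl⟩
    rw [Scheme.Hom.range_fiberι] at this
    exact this
  haveI : Finite ↥(VF : Set F) := by
    have : ((f.fiberι (f x)) '' (VF : Set F)).Finite := hO.subset fun y hy => by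
      obtain ⟨z, hz, rfl⟩ := hy
      exact (hV _ (hfib z)).1 hz
    exact (this.of_finite_image (f.fiberι (f x)).isEmbedding.injective.injOn).to_subtype
  have hxF : f.asFiber x ∈ (VF : Set F) := by
    show f.fiberι (f x) (f.asFiber x) ∈ V
    rw [f.fiberι_asFiber]
    exact (hV x rfl).2 hx
  rw [Scheme.Hom.quasiFiniteAt_iff_isOpen_singleton_asFiber]
  have h1 := VF.2.isOpenEmbedding_subtypeVal.isOpenMap _ (isOpen_discrete ({⟨_, hxF⟩} : Set ↥(VF : Set F)))
  rwa [Set.image_singleton] at h1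

variable {S : Scheme.{u}} (G : GroupoidScheme S)

theorem exists_comp_point (r r₀ : G.R) (h : G.s r = G.t r₀) :
    ∃ r₁ : G.R, G.s r₁ = G.s r₀ ∧ G.t r₁ = G.t r := by
  obtain ⟨q, hq1, hq2⟩ := Scheme.Pullback.exists_preimage_pullback r r₀ h
  have hcs : G.c ≫ G.s = pullback.snd G.s G.t ≫ G.s := by
    simpa using G.comp_s (pullback.fst G.s G.t) (pullback.snd G.s G.t) pullback.condition
  have hct : G.c ≫ G.t = pullback.fst G.s G.t ≫ G.t := by
    simpa using G.comp_t (pullback.fst G.s G.t) (pullback.snd G.s G.t) pullback.condition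
  refine ⟨G.c q, ?_, ?_⟩
  · rw [← Scheme.Hom.comp_apply, hcs, Scheme.Hom.comp_apply, hq2]
  · rw [← Scheme.Hom.comp_apply, hct, Scheme.Hom.comp_apply, hq1]

theorem finite_preimage_s_of_orbit [LocallyOfFiniteType G.s] (u : G.U) (hfin : (⇑G.s ⁻¹' {u}).Finite)
    (x : G.U) (hx : x ∈ ⇑G.t '' (⇑G.s ⁻¹' {u})) : (⇑G.s ⁻¹' {x}).Finite := by
  obtain ⟨r₀, hr₀, rfl⟩ := hx
  obtain rfl : G.s r₀ = u := hr₀
  let f := pullback.fst G.s G.t
  let g := pullback.snd G.s G.t
  have hc : f ≫ G.s = g ≫ G.t := pullback.condition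
  have hcc : G.c = cmp G f g := by rw [cmp_eq hc]; simp [f, g]
  have hcs : G.c ≫ G.s = g ≫ G.s := by rw [hcc]; exact cmp_s hc
  let ψ : pullback G.s G.t ⟶ pullback G.s G.s := pullback.lift G.c g hcs
  have hψ : Function.Injective ψ := by
    have hc2 : pullback.fst G.s G.s ≫ G.s = (pullback.snd G.s G.s ≫ G.i) ≫ G.t := by
      rw [inv_t]; exact pullback.condition
    have hcond : cmp G (pullback.fst G.s G.s) (pullback.snd G.s G.s ≫ G.i) ≫ G.s = pullback.snd G.s G.s ≫ G.t := by
      rw [cmp_s hc2, inv_s]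
    have h1 : ψ ≫ pullback.lift _ _ hcond = 𝟙 _ := by
      apply pullback.hom_ext
      · rw [Category.assoc, pullback.lift_fst, comp_cmp _ hc2, ← Category.assoc, pullback.lift_fst,
          pullback.lift_snd, hcc, cmp_assoc hc (inv_t g).symm, cmp_inv, cmp_id hc, Category.id_comp]
      · rw [Category.assoc, pullback.lift_snd, pullback.lift_snd, Category.id_comp]
    intro a b hab
    have := congrArg (fun z => (pullback.lift _ _ hcond) z) hab
    simpa [← Scheme.Hom.comp_apply, h1] using this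
  -- finitely many pairs with a common source lie over an arrow
  have hfib : (⇑(pullback.snd G.s G.s) ⁻¹' {r₀}).Finite := by
    obtain ⟨e, he, hι⟩ := ConsPropLib.exists_fibre_pullback (IsPullback.of_hasPullback G.s G.s) r₀
    let K := G.s.fiber (G.s r₀)
    let π := G.s.fiberToSpecResidueField (G.s r₀)
    haveI : Finite ↥K := by
      haveI := hfin.to_subtype
      exact Finite.of_equiv _ (G.s.fiberHomeo (G.s r₀)).symm.toEquiv
    haveI : CompactSpace ↥K := Finite.compactSpace
    haveI : QuasiCompact π := (HasAffineProperty.iff_of_isAffine (P := @QuasiCompact)).2 inferInstance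
    haveI : LocallyQuasiFinite π := .of_finite_preimage_singleton _ fun y => Set.toFinite _
    let m := (pullback.snd G.s G.s).fiberToSpecResidueField r₀
    haveI : LocallyQuasiFinite m := MorphismProperty.of_isPullback he inferInstance
    haveI : QuasiCompact m := MorphismProperty.of_isPullback he inferInstance
    have hall : (Set.univ : Set ↥((pullback.snd G.s G.s).fiber r₀)).Finite :=
      (m.finite_preimage_singleton (IsLocalRing.closedPoint _)).subset fun z _ =>
        Scheme.Hom.fiberToSpecResidueField_apply _ _ z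
    have := hall.image ((pullback.snd G.s G.s).fiberι r₀)
    rw [Set.image_univ, Scheme.Hom.range_fiberι] at this
    exact this
  refine ((hfib.preimage hψ.injOn).image f).subset fun r hr => ?_
  obtain ⟨q, hq1, hq2⟩ := Scheme.Pullback.exists_preimage_pullback r r₀ hr
  refine ⟨q, ?_, hq1⟩
  show pullback.snd G.s G.s (ψ q) = r₀
  rw [← Scheme.Hom.comp_apply, pullback.lift_snd, hq2]

/-- The orbit of an isolated point with finitely many arrows, with the arrows over it. -/
theorem exists_orbit (p : S) (u : G.U) (hu : G.pU u = p) [LocallyOfFiniteType G.pU] [Flat G.s]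
    [LocallyOfFinitePresentation G.s] [Flat G.t] [LocallyOfFinitePresentation G.t]
    (hqf : ∃ V : G.U.Opens, u ∈ V ∧ ∀ x ∈ V, G.pU x = p → x = u) (hfin : (⇑G.s ⁻¹' {u}).Finite) :
    let O := ⇑G.t '' (⇑G.s ⁻¹' {u})
    O.Finite ∧ (∀ x ∈ O, G.pU x = p) ∧ (∀ x ∈ O, G.pU.QuasiFiniteAt x) ∧
      (⇑G.s ⁻¹' O).Finite ∧ (∀ r ∈ ⇑G.s ⁻¹' O, G.pR r = p) ∧
      (∀ r ∈ ⇑G.s ⁻¹' O, G.pR.QuasiFiniteAt r) ∧ (∀ r, G.s r ∈ O → G.t r ∈ O) ∧ u ∈ O := by
  intro O
  haveI : UniversallyOpen G.t := UniversallyOpen.of_flat G.t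
  have hOf : O.Finite := hfin.image _
  have hpt : ∀ r, G.pU (G.t r) = G.pU (G.s r) := fun r => by
    rw [← Scheme.Hom.comp_apply, ← Scheme.Hom.comp_apply, G.t_over, G.s_over]
  have hOp : ∀ x ∈ O, G.pU x = p := by
    rintro x ⟨r, hr, rfl⟩
    rw [hpt, show G.s r = u from hr, hu]
  have hinv : ∀ r, G.s r ∈ O → G.t r ∈ O := by
    rintro r ⟨r₀, hr₀, he⟩
    obtain ⟨r₁, h1, h2⟩ := exists_comp_point G r r₀ he.symm
    exact ⟨r₁, h1.trans hr₀, h2⟩
  have huO : u ∈ O := ⟨G.e u, by
    show G.s (G.e u) = u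
    rw [← Scheme.Hom.comp_apply, G.e_s]; rfl, by
    rw [← Scheme.Hom.comp_apply, G.e_t]; rfl⟩
  obtain ⟨V, huV, hV⟩ := hqf
  let VO : G.U.Opens := ⟨⇑G.t '' (G.s ⁻¹ᵁ V : Set G.R), G.t.isOpenMap _ (G.s ⁻¹ᵁ V).2⟩
  have hVO : ∀ x, G.pU x = p → (x ∈ VO ↔ x ∈ O) := by
    intro x hx
    constructor
    · rintro ⟨r, hr, rfl⟩
      exact ⟨r, hV _ hr (by rw [← hpt, hx]), rfl⟩
    · rintro ⟨r, hr, rfl⟩
      exact ⟨r, show G.s r ∈ V by rw [show G.s r = u from hr]; exact huV, rfl⟩
  have hRf : (⇑G.s ⁻¹' O).Finite := by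
    rw [← Set.biUnion_of_singleton O, Set.preimage_iUnion₂]
    exact hOf.biUnion fun x hx => finite_preimage_s_of_orbit G u hfin x hx
  have hRp : ∀ r ∈ ⇑G.s ⁻¹' O, G.pR r = p := fun r hr => by
    rw [← G.s_over, Scheme.Hom.comp_apply]; exact hOp _ hr
  haveI : LocallyOfFiniteType G.pR := by rw [← G.s_over]; infer_instance
  refine ⟨hOf, hOp, fun x hx => quasiFiniteAt_of_finite_open G.pU p O hOf hOp VO hVO x hx, hRf, hRp,
    fun r hr => quasiFiniteAt_of_finite_open G.pR p _ hRf hRp (G.s ⁻¹ᵁ VO)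
      (fun r' hr' => hVO (G.s r') (by rw [← Scheme.Hom.comp_apply, G.s_over]; exact hr')) r hr, hinv, huO⟩

end Groth.Agent.GrpdSplit
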